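import Cfsg.Agent.Lib.Helper33.KS.KDefs
import Cfsg.Agent.Lib.Helper55.KS.GA
import Cfsg.Agent.S2950

/-!
# K-S 12.3: construction of `KD` (piece A1)
-/

set_option autoImplicit false

namespace Cfsg.Agent.Lib.Helper33.KS

open Subgroup
open Cfsg.Agent.Lib.Helper22 (conjS mem_conjS conjS_mem conjS_mul conjS_one conjS_eq_of_mem_normalizer)
open Cfsg.Agent.Lib.Helper48 (ZN MS)

universe u

variable {G : Type u} [Group G] [Finite G] {M T K L : Subgroup G}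

theorem kd_of (zn : ZN G) (hO : Cfsg.pCore 2 G = ⊥) (S : Sylow 2 G)
    (hMJ : normalizer (JT (S : Subgroup G) : Set G) ≤ M)
    (hT : T ∈ Cfsg.maxStraddlingTwoSubgroups M) (hK : K ∈ Cfsg.jComponentsOutside M T) (hM : Cfsg.IsTwoLocal M)
    (hL : Cfsg.IsMaximalTwoLocal L) (hKL : K ⊔ JT T ≤ L) : KD M T K L := by
  obtain ⟨L₀, hL₀, hKL₀, huniq, -, hsyl⟩ :=
    Cfsg.Agent.S2950.result zn.hL zn.hN zn.hZ hO S M hM hMJ T hT K hK
  have hLL : L = L₀ := huniq L hL hKL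
  subst hLL
  refine ⟨Cfsg.Agent.Lib.Helper48.ms_of zn S hMJ hT, hO, hK.1.1, hK.2.1, hL, hKL, hsyl, huniq, ?_⟩
  intro T₁ N hT₁2 hT₁M hTT₁ hnot hN hT₁N
  by_contra hNM
  apply hnot
  have hmem : T₁ ∈ Cfsg.straddlingTwoSubgroups M := by
    refine ⟨hT₁2, ?_, hT₁M, N, hN, hT₁N, hNM⟩
    intro hbot
    apply hT.1.2.1
    rw [eq_bot_iff, ← hbot]
    exact hTT₁
  have h1 := (Cfsg.Agent.Lib.Helper48.max_step hT hmem
    ((Cfsg.Agent.Lib.Helper48.thompsonSubgroupOf_le' 2 T).trans hTT₁)).2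
  exact (eq_of_le_of_card_ge hTT₁ h1).ge

theorem kd_conj (h : KD M T K L) {g : G} (hgM : g ∈ M) (hgT : g ∈ normalizer (T : Set G)) :
    KD M T (conjS g K) (conjS g L) := by
  have hgJ : g ∈ normalizer (JT T : Set G) :=
    Cfsg.Agent.Lib.Helper48.normalizer_le_normalizer_thompsonSubgroupOf 2 T hgT
  have hJ : conjS g (JT T) = JT T := conjS_eq_of_mem_normalizer hgJ
  have hTT : conjS g T = T := conjS_eq_of_mem_normalizer hgT
  have hMM : conjS g⁻¹ M = M := conjS_eq_of_mem_normalizer (le_normalizer (inv_mem hgM))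
  refine ⟨h.ms, h.hO, Cfsg.Agent.Lib.Helper48.MS.isJComponent_conj h.hK hgJ, ?_,
    Cfsg.Agent.Lib.Helper55.KS.isMaximalTwoLocal_conjS h.hL g, ?_, ?_, ?_, h.big⟩
  · intro hle
    apply h.hKM
    have := Cfsg.Agent.Lib.Helper48.conjS_mono g⁻¹ hle
    rwa [Cfsg.Agent.Lib.Helper48.conjS_inv_conjS, hMM] at this
  · have := Cfsg.Agent.Lib.Helper48.conjS_mono g h.hKL
    have e : conjS g (K ⊔ JT T) = conjS g K ⊔ conjS g (JT T) := Subgroup.map_sup _ _ _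
    rw [e, hJ] at this
    exact this
  · have := Cfsg.Agent.Lib.Helper48.isSylowTwoIn_conjS h.hTL g
    rwa [hTT] at this
  · intro L' hL' hle
    have h1 := Cfsg.Agent.Lib.Helper48.conjS_mono g⁻¹ hle
    have e : conjS g⁻¹ (conjS g K ⊔ JT T) = conjS g⁻¹ (conjS g K) ⊔ conjS g⁻¹ (JT T) :=
      Subgroup.map_sup _ _ _
    have hJ' : conjS g⁻¹ (JT T) = JT T := conjS_eq_of_mem_normalizer (inv_mem hgJ)
    rw [e, Cfsg.Agent.Lib.Helper48.conjS_inv_conjS, hJ'] at h1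
    have h2 := h.uniq _ (Cfsg.Agent.Lib.Helper55.KS.isMaximalTwoLocal_conjS hL' g⁻¹) h1
    rw [← h2, Cfsg.Agent.Lib.Helper48.conjS_conjS_inv]

end Cfsg.Agent.Lib.Helper33.KS
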