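import Cfsg.Agent.Lib.Helper48.JC25
import Cfsg.Agent.Lib.Helper33.KS.Defs

/-!
# K-S 12.3: the standing data for a `J(T)`-component outside `M` (helper33)
-/

set_option autoImplicit false

namespace Cfsg.Agent.Lib.Helper33.KS

open Subgroup
open Cfsg.Agent.Lib.Helper22 (conjS)
open Cfsg.Agent.Lib.Helper48 (ZN MS)

universe u

variable {G : Type u} [Group G] [Finite G]

/-- `J(T)`. -/
abbrev JT (T : Subgroup G) : Subgroup G := Cfsg.thompsonSubgroupOf 2 T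

/-- `Z₀ = Ω₁Z(J(T))`. -/
abbrev Z0 (T : Subgroup G) : Subgroup G := Cfsg.omegaCenterOf (Cfsg.thompsonSubgroupOf 2 T)

/-- `Y = C_{Z₀}(K)`. -/
def YY (T K : Subgroup G) : Subgroup G := Z0 T ⊓ centralizer (K : Set G)

/-- `K` is a `J(T)`-component outside `M`, `L` its unique maximal 2-local, `T` a Sylow 2-subgroup of `L`;
`big`: 2-locals over 2-subgroups of `M` properly containing `T` are in `M`. -/
structure KD (M T K L : Subgroup G) : Prop where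
  ms : MS M T
  hO : Cfsg.pCore 2 G = ⊥
  hK : Cfsg.IsJComponent T K
  hKM : ¬ K ≤ M
  hL : Cfsg.IsMaximalTwoLocal L
  hKL : K ⊔ JT T ≤ L
  hTL : Cfsg.IsSylowTwoIn T L
  uniq : ∀ L' : Subgroup G, Cfsg.IsMaximalTwoLocal L' → K ⊔ JT T ≤ L' → L' = L
  big : ∀ T₁ N : Subgroup G, IsPGroup 2 T₁ → T₁ ≤ M → T ≤ T₁ → ¬ T₁ ≤ T → Cfsg.IsTwoLocal N →
    T₁ ≤ N → N ≤ M

/-- the conclusion of S2951 in the case `T < S`, with the extra information used later. -/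
def LtOut (T K L : Subgroup G) (S : Sylow 2 G) : Prop :=
  Nat.card (Cfsg.omegaCenterOf (S : Subgroup G)) = 2 ∧ Cfsg.omegaCenterOf T = Z0 T ∧
  ((Cfsg.omegaCenterOf (S : Subgroup G) = Z0 T ∧ Nat.card (Z0 T) = 2) ∨
    (Nat.card (Z0 T) = 4 ∧
      (L ⊓ centralizer (Z0 T : Set G)).relIndex (normalizer (Z0 T : Set G)) = 2 ∧
      ∀ s ∈ (S : Subgroup G), s ∈ normalizer (T : Set G) → s ∉ T → ∃ y ∈ YY T K, y ≠ 1 ∧
        ∀ u ∈ Z0 T, u = y ∨ u = s * y * s⁻¹ ∨ u ∈ Cfsg.omegaCenterOf (S : Subgroup G)))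

/-- the facts on `P = ⟨K, T⟩`. -/
structure PP (T P : Subgroup G) : Prop where
  cent : centralizer (Cfsg.pCoreOf 2 P : Set G) ≤ Cfsg.pCoreOf 2 P
  syl : Cfsg.IsSylowTwoIn T P
  idx3 : T.relIndex P = 3
  idx6 : (Cfsg.pCoreOf 2 P).relIndex P = 6
  nab : ¬ ⁅P, P⁆ ≤ Cfsg.pCoreOf 2 P
  comm : ⁅Cfsg.omegaCenterOf T, P⁆ ≠ ⊥

/-- the bad case is impossible. -/
def CaseII (G : Type u) [Group G] : Prop :=
  ∀ (S : Sylow 2 G) (L : Subgroup G), Cfsg.IsMaximalTwoLocal L → (S : Subgroup G) ≤ L →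
    (∀ L' : Subgroup G, Cfsg.IsMaximalTwoLocal L' → (S : Subgroup G) ≤ L' → L' = L) →
    L ≤ normalizer (Cfsg.thompsonSubgroupOf 2 (S : Subgroup G) : Set G)

end Cfsg.Agent.Lib.Helper33.KS
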