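import Cfsg.Agent.Lib.Helper55.KS.Sym
import Cfsg.Agent.Lib.Helper33.KS.KDefs

/-!
# S2954: the extra data on `P = K ⊔ T` coming from the amalgam theorem (helper33)
-/

set_option autoImplicit false

namespace Cfsg.Agent.Lib.Helper33.KS

open Subgroup

universe u

variable {G : Type u} [Group G]

/-- the extra data on `P = K ⊔ T` coming from the amalgam theorem. -/
structure SD (T K : Subgroup G) : Prop where
  ab : ∀ a ∈ Cfsg.pCoreOf 2 (K ⊔ T), ∀ b ∈ Cfsg.pCoreOf 2 (K ⊔ T), a * b = b * a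
  card : Nat.card (K ⊔ T : Subgroup G) = 24 ∨ Nat.card (K ⊔ T : Subgroup G) = 48

end Cfsg.Agent.Lib.Helper33.KS
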