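import Cfsg.Agent.Lib.Helper33.KS.LDefs
import Cfsg.Agent.Lib.Helper1.KS.A3

/-!
# S2954: `L = K ⊔ T` (pieces LP1, LP3, LP4, LP5; helper33)
-/

set_option autoImplicit false

namespace Cfsg.Agent.Lib.Helper33.KS

open Subgroup
open Cfsg.Agent.Lib.Helper22 (conjS mem_conjS conjS_mem conjS_mul conjS_one conjS_eq_of_mem_normalizer)
open Cfsg.Agent.Lib.Helper48 (MS)
open Cfsg.Agent.Lib.Helper55.KS (Ctx PClause P_struct)

universe u

variable {G : Type u} [Group G] [Finite G] {M T K L : Subgroup G}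

/-- [LP1] -/
theorem pCoreOf_L_eq (c : Ctx M T K L) (hTL : T ≤ L) (_hZ0 : ∀ t ∈ T, ∀ a ∈ Z0 T, t * a = a * t)
    (sd : SD T K) : Cfsg.pCoreOf 2 L = Cfsg.pCoreOf 2 (K ⊔ T) := by
  have hPL : K ⊔ T ≤ L := sup_le c.hKL hTL
  have h1 : Cfsg.pCoreOf 2 L ≤ Cfsg.pCoreOf 2 (K ⊔ T) := by
    apply Cfsg.Agent.Lib.Helper49.le_pCoreOf
    · exact (Cfsg.Agent.Lib.Helper47.pCoreOf_le_of_isSylowIn (c.syl hTL)).trans le_sup_right
    · exact hPL.trans (Cfsg.Agent.Lib.Helper49.le_normalizer_pCoreOf 2 L)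
    · exact Cfsg.Agent.Lib.Helper49.pCoreOf_isPGroup 2 L
  apply le_antisymm h1
  refine le_trans ?_ (c.mem hTL).2.2
  intro q hq
  rw [mem_centralizer_iff]
  intro y hy
  exact sd.ab y (h1 hy) q hq

theorem wOf_le_Q (c : Ctx M T K L) (hTL : T ≤ L) (hZ0 : ∀ t ∈ T, ∀ a ∈ Z0 T, t * a = a * t)
    (sd : SD T K) : Cfsg.wOf K ≤ Cfsg.pCoreOf 2 (K ⊔ T) ∧
      (Nat.card (Cfsg.pCoreOf 2 (K ⊔ T)) = 4 ∨ Nat.card (Cfsg.pCoreOf 2 (K ⊔ T)) = 8) := by
  constructor
  · rw [← pCoreOf_L_eq c hTL hZ0 sd]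
    exact (Cfsg.Agent.Lib.Helper48.JS.W_le_P K).trans
      (Cfsg.Agent.Lib.Helper48.pCoreOf_comp_le c.ms.zn c.ms.hT1 (c.mem hTL) c.hK c.hKL)
  · obtain ⟨-, -, -, hpc⟩ := P_struct c hTL hZ0
    have h6 := hpc.2.2.1
    have hm := relIndex_mul_relIndex (⊥ : Subgroup G) _ _ bot_le
      (Cfsg.Agent.Lib.Helper49.pCoreOf_le 2 (K ⊔ T))
    rw [relIndex_bot_left, relIndex_bot_left, h6] at hm
    rcases sd.card with h | h <;> rw [h] at hm <;> omega

omit [Finite G] in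
/-- `W ≤ Q` of index at most 2, `x` centralizes `W` and normalizes `Q`: `x` acts trivially on `Q/W`. -/
theorem lp3_quot {W Q : Subgroup G} (hWQ : W ≤ Q) (hW4 : Nat.card W = 4)
    (hQ : Nat.card Q = 4 ∨ Nat.card Q = 8) {x : G} (hxW : ∀ u ∈ W, x * u * x⁻¹ = u)
    (hxQ : ∀ q ∈ Q, x * q * x⁻¹ ∈ Q) : ∀ q ∈ Q, q⁻¹ * (x * q * x⁻¹) ∈ W := by
  have hfin : Finite Q := Nat.finite_of_card_ne_zero (by rcases hQ with h | h <;> rw [h] <;> norm_num)
  have hinW : ∀ q ∈ W, q⁻¹ * (x * q * x⁻¹) ∈ W := by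
    intro q hq
    rw [hxW q hq, inv_mul_cancel]
    exact W.one_mem
  rcases hQ with h | h
  · have : W = Q := by
      apply Subgroup.eq_of_le_of_card_ge hWQ
      rw [hW4, h]
    rw [← this]
    exact hinW
  · have hidx : (W.subgroupOf Q).index = 2 := by
      have hm := relIndex_mul_relIndex (⊥ : Subgroup G) _ _ bot_le hWQ
      rw [relIndex_bot_left, relIndex_bot_left, hW4, h] at hm
      show W.relIndex Q = 2
      omega
    intro q hq
    by_cases hqW : q ∈ W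
    · exact hinW q hqW
    · have h1 := mul_mem_iff_of_index_two hidx (a := (⟨q, hq⟩ : Q)⁻¹)
        (b := ⟨x * q * x⁻¹, hxQ q hq⟩)
      have h2 : ((⟨q, hq⟩ : Q)⁻¹ * ⟨x * q * x⁻¹, hxQ q hq⟩ ∈ W.subgroupOf Q) ↔
          q⁻¹ * (x * q * x⁻¹) ∈ W := by
        rw [mem_subgroupOf]; rfl
      rw [← h2, h1, inv_mem_iff, mem_subgroupOf, mem_subgroupOf]
      constructor
      · intro h; exact absurd h hqW
      · intro h
        exfalso
        apply hqW
        have h3 : x * q * x⁻¹ ∈ W := h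
        have h4 := hxW _ h3
        -- x (x q x⁻¹) x⁻¹ = x q x⁻¹ → x q x⁻¹ = q
        have h5 : x * q * x⁻¹ = q := by
          calc x * q * x⁻¹ = x⁻¹ * (x * (x * q * x⁻¹) * x⁻¹) * x := by group
            _ = x⁻¹ * (x * q * x⁻¹) * x := by rw [h4]
            _ = q := by group
        rw [← h5]; exact h3

/-- [LP3] -/
theorem cent_W_le (c : Ctx M T K L) (hTL : T ≤ L) (hZ0 : ∀ t ∈ T, ∀ a ∈ Z0 T, t * a = a * t)
    (sd : SD T K) : L ⊓ centralizer (Cfsg.wOf K : Set G) ≤ Cfsg.pCoreOf 2 (K ⊔ T) := by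
  have : Fact (Nat.Prime 2) := ⟨Nat.prime_two⟩
  obtain ⟨hTK, -, -, hpc⟩ := P_struct c hTL hZ0
  have hQL := pCoreOf_L_eq c hTL hZ0 sd
  obtain ⟨hWQ, hQc⟩ := wOf_le_Q c hTL hZ0 sd
  have hW4 : Nat.card (Cfsg.wOf K) = 4 := c.hK.2.2.2.2.1
  have hWe : ∀ w ∈ Cfsg.wOf K, w * w = 1 := c.hK.2.2.2.2.2
  have hCQ : centralizer (Cfsg.pCoreOf 2 (K ⊔ T) : Set G) ≤ Cfsg.pCoreOf 2 (K ⊔ T) := hpc.1
  have hLN : L ≤ normalizer (Cfsg.pCoreOf 2 (K ⊔ T) : Set G) := by
    rw [← hQL]; exact Cfsg.Agent.Lib.Helper49.le_normalizer_pCoreOf 2 L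
  have hQ2 : IsPGroup 2 (Cfsg.pCoreOf 2 (K ⊔ T)) := Cfsg.Agent.Lib.Helper49.pCoreOf_isPGroup 2 _
  -- (1)
  have hsq : ∀ x ∈ L ⊓ centralizer (Cfsg.wOf K : Set G), x * x ∈ Cfsg.pCoreOf 2 (K ⊔ T) := by
    intro x hx
    have hxW : ∀ u ∈ Cfsg.wOf K, x * u * x⁻¹ = u := by
      intro u hu
      have := (mem_centralizer_iff.mp hx.2) u hu
      rw [← this]; group
    have hxQ : ∀ q ∈ Cfsg.pCoreOf 2 (K ⊔ T), x * q * x⁻¹ ∈ Cfsg.pCoreOf 2 (K ⊔ T) :=
      fun q hq => (mem_normalizer_iff.mp (hLN hx.1) q).mp hq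
    have hq := lp3_quot hWQ hW4 hQc hxW hxQ
    apply hCQ
    rw [mem_centralizer_iff]
    intro q hqQ
    set u := q⁻¹ * (x * q * x⁻¹) with hu
    have huW : u ∈ Cfsg.wOf K := hq q hqQ
    have e1 : x * q * x⁻¹ = q * u := by rw [hu]; group
    have e2 : x * x * q * (x * x)⁻¹ = q := by
      calc x * x * q * (x * x)⁻¹ = x * (x * q * x⁻¹) * x⁻¹ := by group
        _ = x * (q * u) * x⁻¹ := by rw [e1]
        _ = (x * q * x⁻¹) * (x * u * x⁻¹) := by group
        _ = q * u * u := by rw [e1, hxW u huW]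
        _ = q := by rw [mul_assoc, hWe u huW, mul_one]
    calc q * (x * x) = (x * x * q * (x * x)⁻¹) * (x * x) := by rw [e2]
      _ = x * x * q := by group
  -- (2)
  have hX2 : IsPGroup 2 (L ⊓ centralizer (Cfsg.wOf K : Set G) : Subgroup G) := by
    intro x
    obtain ⟨k, hk⟩ := hQ2 ⟨(x : G) * x, hsq x x.2⟩
    refine ⟨k + 1, ?_⟩
    have hk' : ((x : G) * x) ^ 2 ^ k = 1 := by
      have := congrArg Subtype.val hk
      simpa using this
    apply Subtype.ext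
    show ((x ^ 2 ^ (k + 1) : _) : G) = 1
    rw [Subgroup.coe_pow, pow_succ, mul_comm, pow_mul, pow_two]
    exact hk'
  -- normalizing
  have hnorm : L ⊓ normalizer (Cfsg.wOf K : Set G) ≤
      normalizer ((L ⊓ centralizer (Cfsg.wOf K : Set G) : Subgroup G) : Set G) := by
    have key : ∀ g ∈ L ⊓ normalizer (Cfsg.wOf K : Set G),
        ∀ x ∈ L ⊓ centralizer (Cfsg.wOf K : Set G),
        g * x * g⁻¹ ∈ L ⊓ centralizer (Cfsg.wOf K : Set G) := by
      intro g hg x hx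
      refine ⟨L.mul_mem (L.mul_mem hg.1 hx.1) (L.inv_mem hg.1), ?_⟩
      show _ ∈ centralizer _
      rw [mem_centralizer_iff]
      intro u hu
      have hu' : g⁻¹ * u * g ∈ Cfsg.wOf K := by
        have := (mem_normalizer_iff.mp (inv_mem hg.2) u).mp hu
        rwa [inv_inv] at this
      have := (mem_centralizer_iff.mp hx.2) _ hu'
      calc u * (g * x * g⁻¹) = g * ((g⁻¹ * u * g) * x) * g⁻¹ := by group
        _ = g * (x * (g⁻¹ * u * g)) * g⁻¹ := by rw [this]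
        _ = g * x * g⁻¹ * u := by group
    intro g hg
    rw [mem_normalizer_iff]
    intro x
    constructor
    · exact key g hg x
    · intro h
      have := key g⁻¹ (inv_mem hg) _ h
      have e : g⁻¹ * (g * x * g⁻¹) * g⁻¹⁻¹ = x := by group
      rwa [e] at this
  have hKN : K ≤ normalizer (Cfsg.wOf K : Set G) :=
    le_normalizer.trans (Cfsg.Agent.Lib.Helper48.normalizer_le_normalizer_wOf K)
  have hTN : T ≤ normalizer (Cfsg.wOf K : Set G) :=
    hTK.trans (Cfsg.Agent.Lib.Helper48.normalizer_le_normalizer_wOf K)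
  -- (3)
  have hXT : L ⊓ centralizer (Cfsg.wOf K : Set G) ≤ T := by
    have h1 : IsPGroup 2 ((L ⊓ centralizer (Cfsg.wOf K : Set G)) ⊔ T : Subgroup G) :=
      Cfsg.Agent.Lib.Helper22.isPGroup_sup ((le_inf hTL hTN).trans hnorm) hX2 (c.syl hTL).isPGroup
    have h2 := (c.syl hTL).eq_of_le h1 le_sup_right (sup_le inf_le_left hTL)
    rw [← h2]
    exact le_sup_left
  -- (4)
  exact Cfsg.Agent.Lib.Helper49.le_pCoreOf (hXT.trans le_sup_right)
    ((sup_le (le_inf c.hKL hKN) (le_inf hTL hTN)).trans hnorm) hX2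

omit [Finite G] in
/-- a subgroup of order 4 is exhausted by 4 distinct elements. -/
theorem lp4_all {W : Subgroup G} (hW4 : Nat.card W = 4) {w w₁ w₂ : G} (h0 : w ∈ W) (h1 : w₁ ∈ W)
    (h2 : w₂ ∈ W) (n0 : w ≠ 1) (n1 : w₁ ≠ 1) (n2 : w₂ ≠ 1) (n01 : w ≠ w₁) (n02 : w ≠ w₂)
    (n12 : w₁ ≠ w₂) : ∀ u ∈ W, u = 1 ∨ u = w ∨ u = w₁ ∨ u = w₂ := by
  classical
  have hfin : Finite W := Nat.finite_of_card_ne_zero (by rw [hW4]; norm_num)
  have hsub : ({1, w, w₁, w₂} : Set G) ⊆ (W : Set G) := by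
    intro x hx
    simp only [Set.mem_insert_iff, Set.mem_singleton_iff] at hx
    rcases hx with rfl | rfl | rfl | rfl
    · exact W.one_mem
    · exact h0
    · exact h1
    · exact h2
  have hc1 : (W : Set G).ncard = 4 := by
    rw [← hW4]; rfl
  have hc2 : ({1, w, w₁, w₂} : Set G).ncard = 4 := by
    have : ({1, w, w₁, w₂} : Set G) = (({1, w, w₁, w₂} : Finset G) : Set G) := by
      simp
    rw [this, Set.ncard_coe_finset]
    rw [Finset.card_insert_of_notMem, Finset.card_insert_of_notMem, Finset.card_insert_of_notMem,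
      Finset.card_singleton]
    · simpa using n12
    · simp [n01, n02]
    · simp [n0.symm, n1.symm, n2.symm]
  have heq := Set.eq_of_subset_of_ncard_le hsub (by rw [hc1, hc2]) (Set.toFinite _)
  intro u hu
  have : u ∈ ({1, w, w₁, w₂} : Set G) := by rw [heq]; exact hu
  simpa using this

/-- [LP4] -/
theorem normalizer_W_le (c : Ctx M T K L) (hTL : T ≤ L)
    (hZ0 : ∀ t ∈ T, ∀ a ∈ Z0 T, t * a = a * t) (sd : SD T K) :
    L ⊓ normalizer (Cfsg.wOf K : Set G) ≤ K ⊔ T := by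
  obtain ⟨hTK, -, hQT2, -⟩ := P_struct c hTL hZ0
  have hcent := cent_W_le c hTL hZ0 sd
  have hQP : Cfsg.pCoreOf 2 (K ⊔ T) ≤ K ⊔ T := Cfsg.Agent.Lib.Helper49.pCoreOf_le 2 _
  have hW4 : Nat.card (Cfsg.wOf K) = 4 := c.hK.2.2.2.2.1
  have hWe : ∀ w ∈ Cfsg.wOf K, w * w = 1 := c.hK.2.2.2.2.2
  obtain ⟨d, hd⟩ := Cfsg.Agent.Lib.Helper48.exists_jd c.hK
  obtain ⟨w, hwZ, hwW, hw1⟩ := c.exists_w
  have hdN : d ∈ normalizer (Cfsg.wOf K : Set G) :=
    Cfsg.Agent.Lib.Helper48.normalizer_le_normalizer_wOf K (le_normalizer hd.hdK)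
  have hd3 : d * d * d = 1 := by
    have := pow_orderOf_eq_one d
    rw [hd.hd3] at this
    rw [← this, pow_succ, pow_succ, pow_one]
  -- `d` does not commute with nontrivial elements of `W`
  have hfree : ∀ u ∈ Cfsg.wOf K, d * u * d⁻¹ = u → u = 1 := by
    intro u hu he
    have : u ∈ Cfsg.wOf K ⊓ centralizer (zpowers d : Set G) := by
      refine ⟨hu, ?_⟩
      have hdc : d ∈ centralizer ({u} : Set G) := by
        rw [mem_centralizer_singleton_iff]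
        calc d * u = d * u * d⁻¹ * d := by group
          _ = u * d := by rw [he]
      have h1 : zpowers d ≤ centralizer ({u} : Set G) := zpowers_le.mpr hdc
      show u ∈ centralizer _
      rw [mem_centralizer_iff]
      intro y hy
      have := h1 hy
      rw [mem_centralizer_singleton_iff] at this
      exact this
    rw [hd.wOf_inf_centralizer] at this
    exact mem_bot.mp this
  set w₁ := d * w * d⁻¹ with hw₁
  set w₂ := d * w₁ * d⁻¹ with hw₂
  have hw₁W : w₁ ∈ Cfsg.wOf K := (mem_normalizer_iff.mp hdN w).mp hwW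
  have hw₂W : w₂ ∈ Cfsg.wOf K := (mem_normalizer_iff.mp hdN w₁).mp hw₁W
  have n1 : w₁ ≠ 1 := by
    intro h
    apply hw1
    have : w = d⁻¹ * w₁ * d := by rw [hw₁]; group
    rw [this, h]; group
  have n2 : w₂ ≠ 1 := by
    intro h
    apply n1
    have : w₁ = d⁻¹ * w₂ * d := by rw [hw₂]; group
    rw [this, h]; group
  have n01 : w ≠ w₁ := fun h => hw1 (hfree w hwW h.symm)
  have n12 : w₁ ≠ w₂ := fun h => n1 (hfree w₁ hw₁W h.symm)
  have n02 : w ≠ w₂ := by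
    intro h
    apply n2
    apply hfree w₂ hw₂W
    -- d w₂ d⁻¹ = d³ w d⁻³ = w = w₂
    have hdi : d⁻¹ * d⁻¹ * d⁻¹ = 1 := by
      have : (d * d * d)⁻¹ = 1 := by rw [hd3, inv_one]
      rw [← this]; group
    calc d * w₂ * d⁻¹ = (d * d * d) * w * (d⁻¹ * d⁻¹ * d⁻¹) := by rw [hw₂, hw₁]; group
      _ = w := by rw [hd3, hdi]; group
      _ = w₂ := h
  have hall := lp4_all hW4 hwW hw₁W hw₂W hw1 n1 n2 n01 n02 n12
  have hinv : ∀ u ∈ Cfsg.wOf K, u⁻¹ = u := fun u hu => inv_eq_of_mul_eq_one_left (hWe u hu)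
  have hprod : w₂ = w * w₁ := by
    rcases hall (w * w₁) (mul_mem hwW hw₁W) with h | h | h | h
    · exfalso
      apply n01
      have : w₁ = w⁻¹ := (inv_eq_of_mul_eq_one_right h).symm
      rw [this, hinv w hwW]
    · exfalso; exact n1 (mul_eq_left.mp h)
    · exfalso; exact hw1 (mul_eq_right.mp h)
    · exact h.symm
  -- an element of `N(W)` fixing `w`, `w₁` centralizes `W`
  have hfix : ∀ x : G, x * w * x⁻¹ = w → x * w₁ * x⁻¹ = w₁ →
      x ∈ centralizer (Cfsg.wOf K : Set G) := by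
    intro x h0 h1
    rw [mem_centralizer_iff]
    intro u hu
    have key : x * u * x⁻¹ = u := by
      rcases hall u hu with rfl | rfl | rfl | h
      · group
      · exact h0
      · exact h1
      · rw [h, hprod]
        calc x * (w * w₁) * x⁻¹ = (x * w * x⁻¹) * (x * w₁ * x⁻¹) := by group
          _ = w * w₁ := by rw [h0, h1]
    calc u * x = (x * u * x⁻¹) * x := by rw [key]
      _ = x * u := by group
  -- an element of `N(W)` fixing `w` fixes or swaps `w₁`, `w₂`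
  have hsw : ∀ x ∈ normalizer (Cfsg.wOf K : Set G), x * w * x⁻¹ = w →
      x * w₁ * x⁻¹ = w₁ ∨ x * w₁ * x⁻¹ = w₂ := by
    intro x hx h0
    rcases hall _ ((mem_normalizer_iff.mp hx w₁).mp hw₁W) with h | h | h | h
    · exfalso
      apply n1
      have : w₁ = x⁻¹ * (x * w₁ * x⁻¹) * x := by group
      rw [this, h]; group
    · exfalso
      apply n01
      have e1 : w₁ = x⁻¹ * (x * w₁ * x⁻¹) * x := by group
      have e2 : w = x⁻¹ * (x * w * x⁻¹) * x := by group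
      calc w = x⁻¹ * (x * w * x⁻¹) * x := e2
        _ = x⁻¹ * (x * w₁ * x⁻¹) * x := by rw [h0, h]
        _ = w₁ := e1.symm
    · exact Or.inl h
    · exact Or.inr h
  -- the element `t`
  obtain ⟨t, htT, htQ⟩ : ∃ t ∈ T, t ∉ Cfsg.pCoreOf 2 (K ⊔ T) := by
    by_contra hcon
    push Not at hcon
    have : (Cfsg.pCoreOf 2 (K ⊔ T)).relIndex T = 1 := relIndex_eq_one.mpr hcon
    omega
  have htN : t ∈ normalizer (Cfsg.wOf K : Set G) :=
    Cfsg.Agent.Lib.Helper48.normalizer_le_normalizer_wOf K (hTK htT)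
  have htw : t * w * t⁻¹ = w := by rw [hZ0 t htT w hwZ]; group
  have htw₁ : t * w₁ * t⁻¹ = w₂ := by
    rcases hsw t htN htw with h | h
    · exact absurd (hcent ⟨hTL htT, hfix t htw h⟩) htQ
    · exact h
  have htw₂ : t * w₂ * t⁻¹ = w₁ := by
    rw [hprod]
    calc t * (w * w₁) * t⁻¹ = (t * w * t⁻¹) * (t * w₁ * t⁻¹) := by group
      _ = w * (w * w₁) := by rw [htw, htw₁, hprod]
      _ = w₁ := by rw [← mul_assoc, hWe w hwW, one_mul]
  have hKL : K ≤ L := c.hKL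
  -- main
  have step : ∀ g' ∈ L ⊓ normalizer (Cfsg.wOf K : Set G), g' * w * g'⁻¹ = w → g' ∈ K ⊔ T := by
    intro g' hg' h0
    rcases hsw g' hg'.2 h0 with h | h
    · exact hQP (hcent ⟨hg'.1, hfix g' h0 h⟩)
    · have h1 : t * g' ∈ K ⊔ T := by
        apply hQP
        apply hcent
        refine ⟨mul_mem (hTL htT) hg'.1, hfix _ ?_ ?_⟩
        · calc t * g' * w * (t * g')⁻¹ = t * (g' * w * g'⁻¹) * t⁻¹ := by group
            _ = w := by rw [h0, htw]
        · calc t * g' * w₁ * (t * g')⁻¹ = t * (g' * w₁ * g'⁻¹) * t⁻¹ := by group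
            _ = w₁ := by rw [h, htw₂]
      have h2 := mul_mem (inv_mem (le_sup_right (a := K) htT)) h1
      rwa [inv_mul_cancel_left] at h2
  have hdP : d ∈ K ⊔ T := le_sup_left (b := T) hd.hdK
  have hdLN : d ∈ L ⊓ normalizer (Cfsg.wOf K : Set G) := ⟨hKL hd.hdK, hdN⟩
  intro g hg
  rcases hall _ ((mem_normalizer_iff.mp hg.2 w).mp hwW) with h | h | h | h
  · exfalso
    apply hw1
    have : w = g⁻¹ * (g * w * g⁻¹) * g := by group
    rw [this, h]; group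
  · exact step g hg h
  · have h1 : d⁻¹ * g ∈ K ⊔ T := by
      apply step _ (mul_mem (inv_mem hdLN) hg)
      calc d⁻¹ * g * w * (d⁻¹ * g)⁻¹ = d⁻¹ * (g * w * g⁻¹) * d := by group
        _ = w := by rw [h, hw₁]; group
    have h2 := mul_mem hdP h1
    rwa [mul_inv_cancel_left] at h2
  · have h1 : d⁻¹ * d⁻¹ * g ∈ K ⊔ T := by
      apply step _ (mul_mem (mul_mem (inv_mem hdLN) (inv_mem hdLN)) hg)
      calc d⁻¹ * d⁻¹ * g * w * (d⁻¹ * d⁻¹ * g)⁻¹ = d⁻¹ * d⁻¹ * (g * w * g⁻¹) * (d * d) := by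
            simp only [mul_inv_rev, inv_inv, mul_assoc]
        _ = w := by rw [h, hw₂, hw₁]; simp only [mul_assoc, inv_mul_cancel_left, inv_mul_cancel, mul_one]
    have h2 := mul_mem (mul_mem hdP hdP) h1
    have e : d * d * (d⁻¹ * d⁻¹ * g) = g := by group
    rwa [e] at h2

/-- [LP5] -/
theorem wOf_comp_eq (c : Ctx M T K L) (hTL : T ≤ L) (hZ0 : ∀ t ∈ T, ∀ a ∈ Z0 T, t * a = a * t)
    (sd : SD T K) {K' : Subgroup G} (hK' : Cfsg.IsJComponent T K') (hK'L : K' ≤ L) :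
    Cfsg.wOf K' = Cfsg.wOf K := by
  obtain ⟨hWQ, hcard⟩ := wOf_le_Q c hTL hZ0 sd
  have hW4 : Nat.card (Cfsg.wOf K) = 4 := c.hK.2.2.2.2.1
  have hW4' : Nat.card (Cfsg.wOf K') = 4 := hK'.2.2.2.2.1
  have hW'Q : Cfsg.wOf K' ≤ Cfsg.pCoreOf 2 (K ⊔ T) := by
    rw [← pCoreOf_L_eq c hTL hZ0 sd]
    exact (Cfsg.Agent.Lib.Helper48.JS.W_le_P K').trans
      (Cfsg.Agent.Lib.Helper48.pCoreOf_comp_le c.ms.zn c.ms.hT1 (c.mem hTL) hK' hK'L)
  rcases hcard with h4 | h8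
  · have e1 : Cfsg.wOf K = Cfsg.pCoreOf 2 (K ⊔ T) := eq_of_le_of_card_ge hWQ (by rw [h4, hW4])
    have e2 : Cfsg.wOf K' = Cfsg.pCoreOf 2 (K ⊔ T) := eq_of_le_of_card_ge hW'Q (by rw [h4, hW4'])
    rw [e1, e2]
  · obtain ⟨d, hd⟩ := Cfsg.Agent.Lib.Helper48.exists_jd c.hK
    have hne : Cfsg.wOf K ⊓ Cfsg.wOf K' ≠ ⊥ := by
      intro hbot
      have hn : Cfsg.wOf K ≤ normalizer (Cfsg.wOf K' : Set G) := by
        intro x hx
        rw [mem_normalizer_iff]
        intro y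
        constructor
        · intro hy
          have : x * y * x⁻¹ = y := by
            rw [sd.ab x (hWQ hx) y (hW'Q hy), mul_inv_cancel_right]
          rw [this]; exact hy
        · intro hy
          have hy' : x * y * x⁻¹ ∈ Cfsg.pCoreOf 2 (K ⊔ T) := hW'Q hy
          have hyQ : y ∈ Cfsg.pCoreOf 2 (K ⊔ T) := by
            have := mul_mem (mul_mem (inv_mem (hWQ hx)) hy') (hWQ hx)
            have e : x⁻¹ * (x * y * x⁻¹) * x = y := by group
            rwa [e] at this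
          have : x * y * x⁻¹ = y := by
            rw [sd.ab x (hWQ hx) y hyQ, mul_inv_cancel_right]
          rwa [this] at hy
      have h1 := Cfsg.Agent.Lib.Helper1.KS.a3_card_sup hn hbot
      have h2 : Nat.card (Cfsg.wOf K ⊔ Cfsg.wOf K' : Subgroup G) ≤
          Nat.card (Cfsg.pCoreOf 2 (K ⊔ T)) := card_le_of_le (sup_le hWQ hW'Q)
      rw [h1, hW4, hW4', h8] at h2
      norm_num at h2
    have hKK' : K ≤ normalizer (K' : Set G) :=
      MS.comp_le_normalizer c.ms c.hL.1 c.not_le c.hJL hK' hK'L c.hK c.hKL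
    have hd1 : d ∈ normalizer (Cfsg.wOf K' : Set G) :=
      Cfsg.Agent.Lib.Helper48.normalizer_le_normalizer_wOf K' (hKK' hd.hdK)
    have hd2 : d ∈ normalizer (Cfsg.wOf K : Set G) :=
      Cfsg.Agent.Lib.Helper48.normalizer_le_normalizer_wOf K (le_normalizer hd.hdK)
    have hd3 : d ∈ normalizer ((Cfsg.wOf K ⊓ Cfsg.wOf K' : Subgroup G) : Set G) := by
      rw [mem_normalizer_iff] at hd1 hd2 ⊢
      intro y
      rw [mem_inf, mem_inf, hd1 y, hd2 y]
    have h3 := hd.eq_wOf_of_le hW4 inf_le_left hne hd3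
    have h4 : Cfsg.wOf K ≤ Cfsg.wOf K' := inf_eq_left.mp h3
    exact (eq_of_le_of_card_ge h4 (by rw [hW4, hW4'])).symm

theorem L_eq_P (c : Ctx M T K L) (hTL : T ≤ L) (hZ0 : ∀ t ∈ T, ∀ a ∈ Z0 T, t * a = a * t)
    (sd : SD T K) : L = K ⊔ T := by
  have hUU : MS.UU T L = Cfsg.wOf K := by
    apply le_antisymm
    · unfold MS.UU
      apply iSup_le
      rintro ⟨K', hK', hK'L⟩
      exact (wOf_comp_eq c hTL hZ0 sd hK' hK'L).le
    · exact MS.wOf_le_UU c.hK c.hKL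
  have h1 := MS.le_normalizer_UU c.ms c.hL.1 c.not_le c.hJL
  rw [hUU] at h1
  exact le_antisymm ((le_inf le_rfl h1).trans (normalizer_W_le c hTL hZ0 sd)) (sup_le c.hKL hTL)

end Cfsg.Agent.Lib.Helper33.KS
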