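import Cfsg.Agent.Lib.Helper33.KS.LP
import Cfsg.Agent.Lib.Helper33.KS.NConcl
import Cfsg.Agent.Lib.Helper32.Am.Main
import Cfsg.Agent.Lib.Helper55.Ident.Main

/-!
# S2954: assembly (helper33)
-/

set_option autoImplicit false

namespace Cfsg.Agent.Lib.Helper33.KS

open Subgroup
open Cfsg.Agent.Lib.Helper22 (conjS mem_conjS conjS_mem conjS_mul conjS_one conjS_eq_of_mem_normalizer)
open Cfsg.Agent.Lib.Helper48 (ZN MS)
open Cfsg.Agent.Lib.Helper55.KS (Ctx PClause P_struct)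
open Cfsg.Agent.Lib.Helper32.KSLocal (Par)

universe u

variable {G : Type u} [Group G] [Finite G] {M T K L : Subgroup G}

theorem par_of_pp {P T : Subgroup G} (h : PP T P) : Par P T where
  hTP := h.syl.1
  hT2 := h.syl.2.1
  h3 := h.idx3
  h6 := h.idx6
  hC := inf_le_right.trans h.cent
  hZ := by
    intro hle
    apply h.comm
    rw [commutator_eq_bot_iff_le_centralizer]
    exact le_centralizer_iff.mp hle

/-- the non-symmetric amalgam theorem. -/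
theorem amalgam {P₁ P₂ T : Subgroup G} (h₁ : PP T P₁) (h₂ : PP T P₂)
    (hcore : ∀ N : Subgroup G, IsPGroup 2 N → P₁ ≤ normalizer (N : Set G) →
      P₂ ≤ normalizer (N : Set G) → N = ⊥) :
    ((∀ a ∈ Cfsg.pCoreOf 2 P₁, ∀ b ∈ Cfsg.pCoreOf 2 P₁, a * b = b * a) ∧
      (∀ a ∈ Cfsg.pCoreOf 2 P₂, ∀ b ∈ Cfsg.pCoreOf 2 P₂, a * b = b * a)) ∧
    ((Nonempty (↥P₁ ≃* Equiv.Perm (Fin 4)) ∧ Nonempty (↥P₂ ≃* Equiv.Perm (Fin 4))) ∨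
      (Nonempty (↥P₁ ≃* Equiv.Perm (Fin 4) × Multiplicative (ZMod 2)) ∧
        Nonempty (↥P₂ ≃* Equiv.Perm (Fin 4) × Multiplicative (ZMod 2)))) := by
  have hw : ∀ N : Subgroup G, N ≤ T → P₁ ≤ normalizer (N : Set G) →
      P₂ ≤ normalizer (N : Set G) → N = ⊥ :=
    fun N hN => hcore N (h₁.syl.2.1.to_le hN)
  have hh : NHyp P₁ P₂ T := ⟨par_of_pp h₁, par_of_pp h₂, hw⟩
  have hb := nconcl hh hcore
    (Cfsg.Agent.Lib.Helper32.Am.not_cm_one (cub0 hh) (Sum.inl ((1 : G) : G ⧸ P₁)))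
  exact ⟨⟨hb.2.2.1, hb.2.2.2.1⟩, Cfsg.Agent.Lib.Helper55.Ident.ident hh.h1 hh.h2 hw hb⟩

theorem pp_of_struct (c : Ctx M T K L) (hTL : T ≤ L) (hZ0 : ∀ t ∈ T, ∀ a ∈ Z0 T, t * a = a * t) :
    PP T (K ⊔ T) := by
  obtain ⟨-, h3, -, h1, h2, h6, h4, h5, -⟩ := P_struct c hTL hZ0
  exact ⟨h1, h2, h3, h6, h4, h5⟩

theorem card_of_iso4 {P : Subgroup G} (h : Nonempty (↥P ≃* Equiv.Perm (Fin 4))) :
    Nat.card P = 24 := by
  obtain ⟨e⟩ := h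
  rw [Nat.card_congr e.toEquiv, Nat.card_eq_fintype_card, Fintype.card_perm]
  rfl

theorem card_of_iso48 {P : Subgroup G}
    (h : Nonempty (↥P ≃* Equiv.Perm (Fin 4) × Multiplicative (ZMod 2))) : Nat.card P = 48 := by
  obtain ⟨e⟩ := h
  rw [Nat.card_congr e.toEquiv, Nat.card_prod, Nat.card_eq_fintype_card, Fintype.card_perm]
  have : Nat.card (Multiplicative (ZMod 2)) = 2 := by
    rw [Nat.card_eq_fintype_card]; rfl
  rw [this]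
  rfl

theorem concl54 {M' K' L' : Subgroup G} (c : Ctx M' T K L) (c' : Ctx M' T K' L') (hne : L' ≠ L)
    (hTL : T ≤ L) (hTL' : T ≤ L') (hZ0 : ∀ t ∈ T, ∀ a ∈ Z0 T, t * a = a * t) :
    ∃ P₁ P₂ : Subgroup G, P₁ ≠ P₂ ∧ Cfsg.IsMaximalTwoLocal P₁ ∧ Cfsg.IsMaximalTwoLocal P₂ ∧
      Cfsg.IsSylowTwoIn T P₁ ∧ Cfsg.IsSylowTwoIn T P₂ ∧
      ((Nonempty (↥P₁ ≃* Equiv.Perm (Fin 4)) ∧ Nonempty (↥P₂ ≃* Equiv.Perm (Fin 4))) ∨
        (Nonempty (↥P₁ ≃* Equiv.Perm (Fin 4) × Multiplicative (ZMod 2)) ∧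
          Nonempty (↥P₂ ≃* Equiv.Perm (Fin 4) × Multiplicative (ZMod 2)))) := by
  have p1 := pp_of_struct c hTL hZ0
  have p2 := pp_of_struct c' hTL' hZ0
  have hJT : Cfsg.thompsonSubgroupOf 2 T ≤ T := Cfsg.Agent.Lib.Helper48.thompsonSubgroupOf_le' 2 T
  have hcore : ∀ N : Subgroup G, IsPGroup 2 N → K ⊔ T ≤ normalizer (N : Set G) →
      K' ⊔ T ≤ normalizer (N : Set G) → N = ⊥ := by
    intro N hN2 h1 h2
    exact c.core_bot c' hne hN2 (le_sup_left.trans h1) (le_sup_left.trans h2)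
      (hJT.trans (le_sup_right.trans h1))
  obtain ⟨⟨hab1, hab2⟩, hiso⟩ := amalgam p1 p2 hcore
  have hc : (Nat.card (K ⊔ T : Subgroup G) = 24 ∨ Nat.card (K ⊔ T : Subgroup G) = 48) ∧
      (Nat.card (K' ⊔ T : Subgroup G) = 24 ∨ Nat.card (K' ⊔ T : Subgroup G) = 48) := by
    rcases hiso with ⟨h1, h2⟩ | ⟨h1, h2⟩
    · exact ⟨Or.inl (card_of_iso4 h1), Or.inl (card_of_iso4 h2)⟩
    · exact ⟨Or.inr (card_of_iso48 h1), Or.inr (card_of_iso48 h2)⟩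
  have e1 := L_eq_P c hTL hZ0 ⟨hab1, hc.1⟩
  have e2 := L_eq_P c' hTL' hZ0 ⟨hab2, hc.2⟩
  refine ⟨K ⊔ T, K' ⊔ T, ?_, e1 ▸ c.hL, e2 ▸ c'.hL, p1.syl, p2.syl, hiso⟩
  intro h
  apply hne
  rw [e1, e2, h]

theorem main54 (zn : Cfsg.Agent.Lib.Helper48.ZN G) (hO : Cfsg.pCore 2 G = ⊥) (S : Sylow 2 G)
    (hM : Cfsg.IsTwoLocal M) (hMJ : normalizer (Cfsg.thompsonSubgroupOf 2 (S : Subgroup G) : Set G) ≤ M)
    (hT : T ∈ Cfsg.maxStraddlingTwoSubgroups M) :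
    ∃ P₁ P₂ : Subgroup G, P₁ ≠ P₂ ∧ Cfsg.IsMaximalTwoLocal P₁ ∧ Cfsg.IsMaximalTwoLocal P₂ ∧
      Cfsg.IsSylowTwoIn T P₁ ∧ Cfsg.IsSylowTwoIn T P₂ ∧
      ((Nonempty (↥P₁ ≃* Equiv.Perm (Fin 4)) ∧ Nonempty (↥P₂ ≃* Equiv.Perm (Fin 4))) ∨
        (Nonempty (↥P₁ ≃* Equiv.Perm (Fin 4) × Multiplicative (ZMod 2)) ∧
          Nonempty (↥P₂ ≃* Equiv.Perm (Fin 4) × Multiplicative (ZMod 2)))) := by
  have hII := Cfsg.Agent.Lib.Helper55.KS.caseII' zn hO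
  obtain ⟨S', hMJ', hTS⟩ := Cfsg.Agent.Lib.Helper55.KS.exists_sylow_ge S hMJ hT.1.1 hT.1.2.2.1
  obtain ⟨K, hK⟩ := Cfsg.Agent.S2949.result zn.hL zn.hN zn.hZ hO S' M hM hMJ' T hT
  obtain ⟨L, c, hTL⟩ := Cfsg.Agent.Lib.Helper55.KS.ctx_of zn hO S' hM hMJ' hT hK
  have hZ0 := Cfsg.Agent.Lib.Helper55.KS.Z0_central hII S' hMJ' hT hTS c hTL
  by_cases hne : T = (S' : Subgroup G)
  · subst hne
    obtain ⟨K', L', c0, c', hne, hSL'⟩ := Cfsg.Agent.Lib.Helper55.KS.exists_second' hII S' c hTL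
    exact concl54 c0 c' hne hTL hSL' hZ0
  · obtain ⟨s, hsS, hsN, hsT, -⟩ :=
      Cfsg.Agent.Lib.Helper55.KS.exists_sq_mem S'.2 (lt_of_le_of_ne hTS hne)
    have hsJ : s ∈ normalizer (Cfsg.thompsonSubgroupOf 2 T : Set G) :=
      Cfsg.Agent.Lib.Helper48.normalizer_le_normalizer_thompsonSubgroupOf 2 T hsN
    have hTL' : T ≤ conjS s L := by
      have := Cfsg.Agent.Lib.Helper48.conjS_mono s hTL
      rwa [conjS_eq_of_mem_normalizer hsN] at this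
    exact concl54 c (c.conj hsJ) (c.conj_ne (c.not_mem hTL S'.2 hTS hsS hsT)) hTL hTL' hZ0

end Cfsg.Agent.Lib.Helper33.KS
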